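import Cfsg.Agent.HZ.L.Bas
import Cfsg.Agent.LV.One.All

/-!
# HZ/L: one prime for every eigenvalue (lead)

* `exists_root'`, `exists_poly`, `exists_pat` : eigenvectors with a given pattern of roots modulo a large prime;
* `exists_pr`.
-/

set_option autoImplicit false
set_option linter.unusedSectionVars false

namespace Cfsg.Agent.HZ.L.Up

open Cfsg Cfsg.Agent.DL Cfsg.Agent.DL.PP Cfsg.Agent.KZ.Lie Cfsg.Agent.HZ.Gen Matrix Polynomial
open scoped IntermediateField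

theorem alg {ν : ℂ} {d p e : ℕ} (hd : 0 < d) (hν : ν ^ d * (p : ℂ) ^ e = 1) : IsAlgebraic ℤ ν :=
  ⟨X ^ d * C ((p : ℤ) ^ e) - 1, fun h => by
    have := congrArg (eval 0) h
    simp [hd.ne'] at this, by simp [hν]⟩

theorem exists_root' {ν : ℂ} {d p e : ℕ} (hd : 0 < d) (hp : p.Prime) (he : 0 < e) (hν : ν ^ d * (p : ℂ) ^ e = 1)
    (U : Finset ℤ[X]) (B : ℕ) : ∃ n t₀ : ℕ, n.Coprime p ∧ ∀ t : ℕ, p ∣ t → t ≡ 1 [MOD n] → t₀ < t →
      ∃ r : ℕ, r.Prime ∧ B < r ∧ r ≠ p ∧ (∀ h : ℤ[X], aeval ν h = 0 → (r : ℤ) ∣ h.eval (t : ℤ)) ∧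
        ∀ h ∈ U, (r : ℤ) ∣ h.eval (t : ℤ) → aeval ν h = 0 := by
  have h4 : ∀ u : ℤ[X], aeval ν u ≠ 0 → ∃ q : ℤ[X], q.coeff 0 ≠ 0 ∧ aeval (aeval ν u) q = 0 := fun u hu =>
    IsAlgebraic.exists_nonzero_coeff_and_aeval_eq_zero
      ((Algebra.adjoin_le (S := Subalgebra.algebraicClosure ℤ ℂ) (Set.singleton_subset_iff.2 (alg hd hν)))
        (aeval_mem_adjoin_singleton ℤ ν)) (mem_nonZeroDivisors_of_ne_zero hu)
  choose! q hq hq' using h4
  obtain ⟨n, t₀, h5, h6⟩ := LV.One.exists_root hd hp he hν (B + ∑ u ∈ U, ((q u).coeff 0).natAbs)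
  refine ⟨n, t₀, h5, fun t a b c => ?_⟩
  obtain ⟨r, hr, h7, h8, h9⟩ := h6 t a b c
  refine ⟨r, hr, by omega, h8, h9, fun u hU h10 => by_contra fun hu => ?_⟩
  have h11 := h9 ((q u).comp u) (by rw [aeval_comp, hq' u hu])
  have h16 := sub_dvd_eval_sub (u.eval (t : ℤ)) 0 (q u)
  rw [sub_zero] at h16
  rw [eval_comp] at h11
  have h13 := dvd_sub h11 (h10.trans h16)
  rw [sub_sub_cancel, ← coeff_zero_eq_eval_zero, Int.natCast_dvd] at h13
  have h14 := Nat.le_of_dvd (Int.natAbs_pos.2 (hq u hu)) h13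
  have h15 := Finset.single_le_sum (f := fun u => ((q u).coeff 0).natAbs) (fun _ _ => Nat.zero_le _) hU
  omega

theorem exists_den {ν : ℂ} (hν : IsAlgebraic ℤ ν) (x : ℚ⟮ν⟯) : ∃ N : ℤ, N ≠ 0 ∧ ∃ g : ℤ[X], aeval ν g = N * (x : ℂ) := by
  have h1 : (x : ℂ) ∈ ℚ⟮ν⟯.toSubalgebra := x.2
  rw [IntermediateField.adjoin_simple_toSubalgebra_of_isAlgebraic
    (hν.extendScalars (algebraMap ℤ ℚ).injective_int), Algebra.adjoin_singleton_eq_range_aeval] at h1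
  obtain ⟨g, hg⟩ := h1
  obtain ⟨b, hb, h2⟩ := IsLocalization.integerNormalization_spec (nonZeroDivisors ℤ) g
  refine ⟨b, nonZeroDivisors.ne_zero hb, IsLocalization.integerNormalization (nonZeroDivisors ℤ) g, ?_⟩
  rw [← aeval_map_algebraMap ℚ, h2, map_zsmul, zsmul_eq_mul]
  exact congrArg _ hg

variable {R : Type} [Fintype R] [DecidableEq R]

/-- the polynomial `a ⬝ Z` -/
noncomputable def pd (a : Vec R) (Z : R → ℤ[X]) : ℤ[X] := ∑ i, C (a i) * Z i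

theorem aeval_pd (ν : ℂ) (a : Vec R) (Z : R → ℤ[X]) : aeval ν (pd a Z) = ev a fun i => aeval ν (Z i) := by
  simp [pd, ev, dotProduct]

theorem eval_pd (t : ℤ) (a : Vec R) (Z : R → ℤ[X]) : (pd a Z).eval t = a ⬝ᵥ fun i => (Z i).eval t := by
  simp [pd, dotProduct, eval_finsetSum]

theorem pd_add (a : Vec R) (Z Z' : R → ℤ[X]) : pd a (Z + Z') = pd a Z + pd a Z' := by
  simp [pd, mul_add, Finset.sum_add_distrib]

theorem exists_one {ν : ℂ} (hν : IsAlgebraic ℤ ν) (y : R → ℂ) {c : Vec R} (hc : ev c y ≠ 0) :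
    ∃ Z : R → ℤ[X], aeval ν (pd c Z) ≠ 0 ∧ (∀ a, ev a y = 0 → aeval ν (pd a Z) = 0) ∧
      ∀ a b, ν * ev a y = ev b y → ν * aeval ν (pd a Z) = aeval ν (pd b Z) := by
  obtain ⟨φ, hφ⟩ := Module.Projective.exists_dual_ne_zero ℚ⟮ν⟯ hc
  choose N hN g hg using fun i => exists_den hν (φ (y i))
  choose m hm using fun i => Finset.dvd_prod_of_mem N (Finset.mem_univ i)
  have h0 : ((∏ i, N i : ℤ) : ℂ) ≠ 0 := Int.cast_ne_zero.2 (Finset.prod_ne_zero_iff.2 fun i _ => hN i)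
  have key : ∀ a, aeval ν (pd a fun i => C (m i) * g i) = ((∏ i, N i : ℤ) : ℂ) * (φ (ev a y) : ℂ) := fun a => by
    have h1 : ev a y = ∑ i, a i • y i := by simp [ev, dotProduct]
    rw [aeval_pd, h1, map_sum, IntermediateField.coe_sum, Finset.mul_sum, ev, dotProduct]
    refine Finset.sum_congr rfl fun i _ => ?_
    rw [map_zsmul, map_mul, hg, hm i]
    simp
    ring
  refine ⟨fun i => C (m i) * g i, ?_, fun a ha => ?_, fun a b h => ?_⟩
  · rw [key]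
    exact mul_ne_zero h0 fun h => hφ (Subtype.ext h)
  · rw [key, ha, map_zero]
    simp
  · have h1 : ev b y = (IntermediateField.AdjoinSimple.gen ℚ ν) • ev a y := h.symm
    rw [key, key, h1, map_smul, smul_eq_mul, IntermediateField.coe_mul]
    simp only [IntermediateField.AdjoinSimple.coe_gen]
    ring

theorem exists_poly {ν : ℂ} (hν : IsAlgebraic ℤ ν) (y : R → ℂ) (s : Finset (Vec R)) :
    ∃ Z : R → ℤ[X], (∀ a ∈ s, (aeval ν (pd a Z) = 0 ↔ ev a y = 0)) ∧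
      ∀ a b, ν * ev a y = ev b y → ν * aeval ν (pd a Z) = aeval ν (pd b Z) := by
  classical
  let H : AddSubgroup (R → ℤ[X]) :=
    { carrier := {Z | (∀ a, ev a y = 0 → aeval ν (pd a Z) = 0) ∧
        ∀ a b, ν * ev a y = ev b y → ν * aeval ν (pd a Z) = aeval ν (pd b Z)}
      add_mem' := fun {Z Z'} h h' => ⟨fun a ha => by rw [pd_add, map_add, h.1 a ha, h'.1 a ha, add_zero],
        fun a b e => by rw [pd_add, pd_add, map_add, map_add, mul_add, h.2 a b e, h'.2 a b e]⟩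
      zero_mem' := ⟨fun a _ => by simp [pd], fun a b _ => by simp [pd]⟩
      neg_mem' := fun {Z} h => by
        have h1 : ∀ a, pd a (-Z) = -pd a Z := fun a => by simp [pd]
        exact ⟨fun a ha => by rw [h1, map_neg, h.1 a ha, neg_zero],
          fun a b e => by rw [h1, h1, map_neg, map_neg, mul_neg, h.2 a b e]⟩ }
  obtain ⟨Z, hZ⟩ := LV.One.exists_int (s.filter fun a => ev a y ≠ 0)
    (fun a => AddMonoidHom.mk' (fun Z : H => aeval ν (pd a Z.1)) fun Z Z' => by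
      rw [AddSubgroup.coe_add, pd_add, map_add]) fun a ha => by
    obtain ⟨Z, h1, h2⟩ := exists_one hν y (Finset.mem_filter.1 ha).2
    exact ⟨⟨Z, h2⟩, h1⟩
  exact ⟨Z.1, fun a ha => ⟨fun h => by_contra fun h1 => hZ a (Finset.mem_filter.2 ⟨ha, h1⟩) h, Z.2.1 a⟩, Z.2.2⟩

theorem exists_pat {ν : ℂ} {d p e : ℕ} (hd : 0 < d) (hp : p.Prime) (he : 0 < e) (hν : ν ^ d * (p : ℂ) ^ e = 1)
    {ι : Type} [Finite ι] (A : ι → Mat R) (s : Finset (Vec R)) (B : ℕ) :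
    ∃ n t₀ : ℕ, n.Coprime p ∧ ∀ t : ℕ, p ∣ t → t ≡ 1 [MOD n] → t₀ < t → ∃ r : ℕ, r.Prime ∧ B < r ∧ r ≠ p ∧
      ∀ w (y : R → ℂ), ν • (A w).map (Int.cast : ℤ → ℂ) *ᵥ y = y → ∃ z : Vec R,
        (∀ i, (r : ℤ) ∣ (((t : ℤ) • A w - 1) *ᵥ z) i) ∧ ∀ a ∈ s, ((r : ℤ) ∣ a ⬝ᵥ z ↔ ev a y = 0) := by
  classical
  have := Fintype.ofFinite ι
  have h1 : ∀ (w : ι) (S : Finset (Vec R)), (∃ y : R → ℂ, ν • (A w).map (Int.cast : ℤ → ℂ) *ᵥ y = y ∧
      S = s.filter fun a => ev a y = 0) → ∃ Z : R → ℤ[X], (∀ a ∈ s, (aeval ν (pd a Z) = 0 ↔ a ∈ S)) ∧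
        ∀ i, ν * aeval ν (pd (A w i) Z) = aeval ν (Z i) := by
    rintro w _ ⟨y, hy, rfl⟩
    obtain ⟨Z, h2, h3⟩ := exists_poly (alg hd hν) y s
    refine ⟨Z, fun a ha => (h2 a ha).trans (by simp [ha]), fun i => ?_⟩
    have h4 := h3 (A w i) (Pi.single i 1) (by
      have h5 : ev (Pi.single i 1) y = y i := by simp [ev, dotProduct, Pi.single_apply]
      rw [h5]
      exact congrFun hy i)
    rw [h4]
    simp [pd, Pi.single_apply]
  choose! Z hZ hZ' using h1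
  obtain ⟨n, t₀, h2, h3⟩ := exists_root' hd hp he hν
    (((Finset.univ : Finset ι) ×ˢ s.powerset ×ˢ s).image fun x => pd x.2.2 (Z x.1 x.2.1)) B
  refine ⟨n, t₀, h2, fun t a b c => ?_⟩
  obtain ⟨r, hr, h4, h5, h6, h7⟩ := h3 t a b c
  refine ⟨r, hr, h4, h5, fun w y hy => ⟨fun i => (Z w (s.filter fun a => ev a y = 0) i).eval (t : ℤ), fun i => ?_,
    fun a ha => ?_⟩⟩
  · have h8 := h6 (X * pd (A w i) (Z w (s.filter fun a => ev a y = 0)) - Z w (s.filter fun a => ev a y = 0) i) (by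
      rw [map_sub, map_mul, aeval_X, hZ' w _ ⟨y, hy, rfl⟩, sub_self])
    rw [eval_sub, eval_mul, eval_X, eval_pd] at h8
    rw [sub_mulVec, smul_mulVec, one_mulVec]
    exact h8
  · have h8 := (hZ w _ ⟨y, hy, rfl⟩ a ha).trans (Finset.mem_filter.trans (and_iff_right ha))
    rw [← eval_pd, ← h8]
    exact ⟨h7 _ (Finset.mem_image.2 ⟨(w, s.filter fun a => ev a y = 0, a), Finset.mem_product.2 ⟨Finset.mem_univ _,
      Finset.mem_product.2 ⟨Finset.mem_powerset.2 (Finset.filter_subset _ _), ha⟩⟩, rfl⟩), h6 _⟩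

variable {p : ℕ} [Fact p.Prime] {k : Type} [Field k] [CharP k p] [IsAlgClosed k] {Y : Type} [Group Y] {N : Type}
  [Fintype N] [DecidableEq N] {ρ : Y →* GL N k} {F : MulAut Y} {G : Subgroup Y}

theorem eig_smul (D : Datum p ρ F G) {j : ℕ} {B : Mat D.R} (h : St D j B) {w : D.W} {μ : ℂ} (h0 : μ ≠ 0) {y : D.R → ℂ}
    (hy : IsE (D.Wm w * B) μ y) : ((p : ℂ) ^ j * μ)⁻¹ • (D.Wm w * D.Mx).map (Int.cast : ℤ → ℂ) *ᵥ y = y := by
  have h1 : (p : ℂ) ^ j ≠ 0 := pow_ne_zero _ (Nat.cast_ne_zero.2 (Fact.out : p.Prime).ne_zero)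
  have h2 : (((p : ℤ) ^ j) • (D.Wm w * B)).map (Int.cast : ℤ → ℂ) =
      (p : ℂ) ^ j • (D.Wm w * B).map (Int.cast : ℤ → ℂ) := by
    ext a b
    rw [map_apply, Matrix.smul_apply, Matrix.smul_apply, map_apply, smul_eq_mul, smul_eq_mul, Int.cast_mul, Int.cast_pow,
      Int.cast_natCast]
  rw [h.WM, h2, smul_mulVec, hy, smul_smul, smul_smul, mul_assoc, inv_mul_cancel₀ (mul_ne_zero h1 h0), one_smul]

/-- **one prime for every eigenvalue** -/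
theorem exists_pr (D : Datum p ρ F G) {j : ℕ} {B : Mat D.R} (h : St D j B) (f : Fr D) (n : ℕ) :
    Lg fun l => ∀ hl : 0 < l, ∀ w μ, Eig (rts D) (D.Wm w * B) μ →
      ∃ r, r.Prime ∧ r ≠ p ∧ n < r ∧ Pr (D.pow hl) B r μ := by
  classical
  have hp : p.Prime := Fact.out
  have hd := f.L.d_pos
  have he := f.L.e_pos
  have hfin : {μ : ℂ | μ ^ f.d = 1}.Finite := by
    refine (nthRoots f.d (1 : ℂ)).toFinset.finite_toSet.subset fun μ hμ => ?_
    exact Finset.mem_coe.2 (Multiset.mem_toFinset.2 ((mem_nthRoots hd).2 hμ))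
  have hE : ∀ w μ, Eig (rts D) (D.Wm w * B) μ → μ ≠ 0 ∧ μ ^ f.d = 1 ∧
      ((p : ℂ) ^ j * μ)⁻¹ ^ f.d * (p : ℂ) ^ f.e = 1 := by
    rintro w μ ⟨y, hy, a, -, ha⟩
    have h0 : y ≠ 0 := fun e => ha (by rw [e, ev, dotProduct_zero])
    have h1 : ∀ i : ℕ, ((D.Wm w * B) ^ i).map (Int.cast : ℤ → ℂ) *ᵥ y = μ ^ i • y := fun i => by
      induction i with
      | zero => simp
      | succ i ih =>
        rw [pow_succ, show ((D.Wm w * B) ^ i * (D.Wm w * B)).map (Int.cast : ℤ → ℂ) =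
          ((D.Wm w * B) ^ i).map Int.cast * (D.Wm w * B).map Int.cast from Matrix.map_mul (f := Int.castRingHom ℂ),
          ← mulVec_mulVec, hy, mulVec_smul, ih, smul_smul, pow_succ']
    have h2 := h1 f.d
    rw [h.pow_eq f.L w, Matrix.map_one _ Int.cast_zero Int.cast_one, one_mulVec, ← sub_eq_zero] at h2
    nth_rw 1 [← one_smul ℂ y] at h2
    rw [← sub_smul, smul_eq_zero, sub_eq_zero] at h2
    have h3 := (h2.resolve_right h0).symm
    have h4 : μ ≠ 0 := fun e => by simp [e, hd.ne'] at h3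
    exact ⟨h4, h3, by exact_mod_cast LV.One.eig_eq (f.L.pow w) (eig_smul D h h4 hy) h0⟩
  refine (Lg.all hfin (Q := fun μ l => ∀ hl : 0 < l, μ ≠ 0 → ((p : ℂ) ^ j * μ)⁻¹ ^ f.d * (p : ℂ) ^ f.e = 1 →
    ∃ r, r.Prime ∧ r ≠ p ∧ n < r ∧ Pr (D.pow hl) B r μ) fun μ _ => ?_).mono fun l hl h0 w μ hμ =>
      hl μ (hE w μ hμ).2.1 h0 (hE w μ hμ).1 (hE w μ hμ).2.2
  by_cases hν : ((p : ℂ) ^ j * μ)⁻¹ ^ f.d * (p : ℂ) ^ f.e = 1
  swap
  · exact Lg.of_forall fun _ _ _ _ h1 => absurd h1 hν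
  obtain ⟨m, t₀, h1, h2⟩ := exists_pat hd hp he hν (fun w : D.W => D.Wm w * D.Mx)
    ((finite_rts D).toFinset.image Prod.fst) n
  have hm : 0 < m := Nat.pos_of_ne_zero fun e => hp.ne_one (by simpa [e] using h1)
  refine ((Lg.gt (f.d * t₀ + 1)).and (Lg.lvl (mul_pos hd (Nat.totient_pos.2 hm)))).mono fun l ⟨h3, i, hi⟩ hl h0 _ => ?_
  have h7 : l = 1 + f.d * (m.totient * i) := by rw [← mul_assoc]; exact hi
  have h8 : t₀ < m.totient * i := lt_of_mul_lt_mul_left (a := f.d) (by omega) (Nat.zero_le _)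
  obtain ⟨r, hr, h9, h10, h11⟩ := h2 (p ^ (f.e * (m.totient * i))) (dvd_pow_self p (mul_pos he (by omega)).ne')
    (by
      rw [mul_left_comm, pow_mul]
      simpa using (Nat.ModEq.pow_totient h1.symm).pow (f.e * i))
    (h8.trans_le ((Nat.le_mul_of_pos_left _ he).trans (Nat.lt_pow_self hp.one_lt).le))
  have h13 : D.Mx ^ l = ((p : ℤ) ^ (f.e * (m.totient * i))) • D.Mx := h7 ▸ LV.One.pow_Mx f.L _
  refine ⟨r, hr, h10, h9, fun w y hy => ?_⟩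
  obtain ⟨z, h14, h15⟩ := h11 w y (eig_smul D h h0 hy)
  refine ⟨z, fun i => ?_, fun a ha => h15 _ (Finset.mem_image_of_mem _ ((Set.Finite.mem_toFinset _).2 ha))⟩
  show (r : ℤ) ∣ ((D.Wm w * D.Mx ^ l - 1) *ᵥ z) i
  rw [h13, mul_smul_comm]
  exact_mod_cast h14 i

end Cfsg.Agent.HZ.L.Up
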