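import Cfsg.Agent.HZ.L.Up.A
import Cfsg.Agent.HZ.L.Up.Pr

/-!
# HZ (S4909): the box `Up` (helper51)
-/

set_option autoImplicit false

namespace Cfsg.Agent.HZ.L.Up

open Cfsg Cfsg.Agent.DL

variable {p : ℕ} [Fact p.Prime] {k : Type} [Field k] [CharP k p] [IsAlgClosed k] {Y : Type} [Group Y] {N : Type}
  [Fintype N] [DecidableEq N] {ρ : Y →* GL N k} {F : MulAut Y} {G : Subgroup Y} (D : Datum p ρ F G)

/-- **the lift** -/
theorem boxUp [Fintype ↥(GF F G)] : BoxUp D := boxUp_of fun _ _ h f n => exists_pr D h f n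

end Cfsg.Agent.HZ.L.Up
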