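import Cfsg.Agent.HZ.L.Bas
import Cfsg.Agent.HZ.Gen.Gal
import Cfsg.Agent.LV.One.Res
import Cfsg.Agent.BZ.Lab.W
import Cfsg.Agent.BZ.Lab.St
import Cfsg.Agent.BZ.Lab.Geo
import Cfsg.Agent.OddOrderCharacters.GaloisTwist

/-!
# HZ (S4909): the lift to a large level (helper51)
-/

set_option autoImplicit false
set_option linter.unusedSectionVars false

namespace Cfsg.Agent.HZ.L.Up

open Cfsg Cfsg.Agent.DL Cfsg.Agent.DL.PP Cfsg.Agent.DL.Uni Cfsg.Agent.DL.Asm Matrix Cfsg.Agent.KZ.Lie Cfsg.Agent.HZ.Gen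
  Cfsg.Agent.ODD.Red Cfsg.Agent.LV.Lift Cfsg.Agent.H593.GlaubermanP Cfsg.Agent.Characters

section abs

variable {S H K : Type} [Group S] [Group H] [Fintype H] [Group K] [Fintype K] [MulDistribMulAction S H] {ι : K →* H} {m : ℕ}
  [Fact m.Prime]

theorem map_inner (σ : ℂ ≃+* ℂ) (f : K → ℂ) {β : K → ℂ} (hβ : IsIrrCharacter K β) :
    σ (classInner f β) = classInner (fun g => σ (f g)) fun g => σ (β g) := by
  rw [classInner, classInner, map_mul, map_inv₀, map_natCast, map_sum]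
  refine congrArg _ (Finset.sum_congr rfl fun x _ => ?_)
  rw [map_mul, ← Core.isCharacter_apply_inv (Core.isIrr_isCharacter hβ),
    ← Core.isCharacter_apply_inv (Core.isIrr_isCharacter (OddOrderCharacters.GaloisTwist.isIrrCharacter_map σ hβ))]

/-- the Glauberman correspondence commutes with the Galois action -/
theorem fix_iff (h : Setup S ι m) (χ : IrrCharacter H) (β : IrrCharacter K) (h1 : H593.GlaubermanP.Inv S (χ : H → ℂ)) {n : ℕ}
    (hn : ¬ m ∣ n) (h2 : classInner ((χ : H → ℂ) ∘ ι) (β : K → ℂ) = n) (σ : ℂ ≃+* ℂ) :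
    Fix σ (χ : H → ℂ) ↔ Fix σ (β : K → ℂ) := by
  obtain ⟨M, hM⟩ := Blocks.ExistsModular.exists_isPModular (Fact.out : m.Prime)
  let χ' : IrrCharacter H := ⟨_, OddOrderCharacters.GaloisTwist.isIrrCharacter_map σ χ.2⟩
  let β' : IrrCharacter K := ⟨_, OddOrderCharacters.GaloisTwist.isIrrCharacter_map σ β.2⟩
  have h3 : classInner ((χ' : H → ℂ) ∘ ι) (β' : K → ℂ) = n := by
    rw [← map_natCast σ, ← h2, map_inner σ _ β.2]
    rfl
  have h4 := fun k => hn ((good_iff h hM h2).1 k)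
  have h5 := fun k => hn ((good_iff h hM h3).1 k)
  constructor
  · intro e
    rw [show χ' = χ from Subtype.ext (funext e)] at h5
    exact congrFun (congrArg Subtype.val (unique_beta h hM h1 h5 h4))
  · intro e
    rw [show β' = β from Subtype.ext (funext e)] at h5
    exact congrFun (congrArg Subtype.val (unique_chi h hM (fun s g => congrArg σ (h1 s g)) h1 h5 h4))

/-- the correspondent of a character of height zero -/
theorem h0_up {N : ℕ} {α : MulAut H} (h : Setup (Subgroup.zpowers α) ι m) (hG : BZ.Lab.Gl 2 m N H α) {M : Ideal AlgInt}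
    (hM : IsPModular 2 M) (χ : IrrCharacter H) (β : IrrCharacter K) (h1 : ∀ g, (χ : H → ℂ) (α g) = (χ : H → ℂ) g) {n : ℕ}
    (hn : ¬ m ∣ n) (h2 : classInner ((χ : H → ℂ) ∘ ι) (β : K → ℂ) = n) (h3 : H0 M (β : K → ℂ)) : H0 M (χ : H → ℂ) := by
  have : Fact (Nat.Prime 2) := ⟨Nat.prime_two⟩
  have := Blocks.Local.isPrime_of_isPModular hM
  obtain ⟨M', hM'⟩ := Blocks.ExistsModular.exists_isPModular (Fact.out : m.Prime)
  have hB := Blocks.Basic.isPBlock_blockOf (M := M) β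
  have hβ := Blocks.Basic.mem_blockOf_self (M := M) β
  obtain ⟨D, hD⟩ := H646.DefectBasic.exists_isDefectGroup hM hB
  obtain ⟨e, -, k1, k2, -, k3⟩ := BZ.Lab.boxW_of BZ.Lab.boxSt ι hG hM h.inj (fun g => ⟨fun e => (h.fixed g).1 fun s =>
    (inv_zpowers (φ := α) (· = g) (fun x => propext ⟨fun e' => α.injective (e'.trans e.symm), fun e' => e' ▸ e⟩) s g).mpr rfl,
      fun e => (h.fixed g).2 e ⟨α, Subgroup.mem_zpowers α⟩⟩) _ D hB hD
  obtain ⟨k4, j, k5, k6⟩ := k3 β hβ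
  have k7 : e β = χ := unique_chi h hM' (inv_zpowers _ (k2 _ ⟨β, hβ, rfl⟩)) (inv_zpowers _ h1)
    (fun k => k5 ((good_iff h hM' k6).1 k)) fun k => hn ((good_iff h hM' h2).1 k)
  rw [Blocks.Basic.isPBlock_eq_blockOf k1 ⟨β, hβ, rfl⟩, k7, (h0_iff hM β).2 h3] at k4
  exact (h0_iff hM χ).1 k4

end abs

variable {p : ℕ} [Fact p.Prime] {k : Type} [Field k] [CharP k p] [IsAlgClosed k] {Y : Type} [Group Y] {N : Type}
  [Fintype N] [DecidableEq N] {ρ : Y →* GL N k} {F : MulAut Y} {G : Subgroup Y} {D : Datum p ρ F G} {j : ℕ} {B : Mat D.R}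

theorem st_pow (h : St D j B) (f : Fr D) {l i : ℕ} (hl : 0 < l) (e : l = f.d * i + 1) : St (D.pow hl) (j * l) B where
  pos := mul_pos h.pos hl
  mx := by
    have h1 := h.pow_eq f.L 1
    rw [D.Wm_one, one_mul] at h1
    show D.Mx ^ l = _
    rw [h.mx, _root_.smul_pow, ← pow_mul]
    congr 1
    rw [e, pow_succ, pow_mul, h1, one_pow, one_mul]
  qs := LV.One.pow_QS h.qs hl
  fin := h.fin
  ex a ha := by
    show ∑ i ∈ Finset.range l, D.ex (D.g^[i] a) = _
    rw [Finset.sum_congr rfl fun i _ => h.ex _ (D.iterate_g_root i ha), Finset.sum_const, Finset.card_range, smul_eq_mul,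
      mul_comm]

variable (D) in
theorem lg_tor {c : ℕ} (hc : c.Prime) (hp : c ≠ p) :
    Lg fun l => ∀ (hl : 0 < l) w, (ordT (D.pow hl) w).factorization c = (ordT D w).factorization c := by
  have := D.fW
  refine (Lg.all' fun w => (BZ.Lab.lg_ordT D hc hp ((ordT D w).factorization c)).and
    (BZ.Lab.lg_ordT D hc hp ((ordT D w).factorization c + 1))).mono fun l h hl w => le_antisymm (le_of_not_gt fun e => ?_) ?_
  · exact Nat.pow_succ_factorization_not_dvd (ordT_ne (D := D) w) hc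
      (((h w).2 hl w).1 ((hc.pow_dvd_iff_le_factorization (ordT_ne w)).2 e))
  · exact (hc.pow_dvd_iff_le_factorization (ordT_ne w)).1 (((h w).1 hl w).2 (Nat.ordProj_dvd _ _))

theorem grp_eq (f : Fr D) {c m i : ℕ} (hc : c.Prime) (hr : c ≠ p) (hm : 0 < m) (h : m = 1 + f.d * i)
    (ht : ∀ w, (ordT (D.pow hm) w).factorization c = (ordT D w).factorization c) :
    (Nat.card ↥(GF (F ^ m) G)).factorization c = (Nat.card ↥(GF F G)).factorization c := by
  have h1 : ∀ w : D.W, (ordT (D.pow hm) w * Nat.card (CW (D.pow hm) w)).factorization c =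
      (ordT D w * Nat.card (CW D w)).factorization c := fun w => by
    have h2 : CW (D.pow hm) w = CW D w := Subgroup.ext fun v => by
      show w * (D.pow hm).Fw v = v * w ↔ w * D.Fw v = v * w
      rw [LV.One.pow_Fw f.L hm h]
    have := (D.pow hm).fW
    rw [Nat.factorization_mul (ordT_ne _) Nat.card_pos.ne', Nat.factorization_mul (ordT_ne _) Nat.card_pos.ne',
      Finsupp.add_apply, Finsupp.add_apply, ht, h2]
  have := D.amb.finite_GF G
  have := (D.pow hm).amb.finite_GF G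
  have := Fintype.ofFinite ↥(GF F G)
  have := Fintype.ofFinite ↥(GF (F ^ m) G)
  obtain ⟨w, hw⟩ := LV.Blk.exists_card D hc hr
  obtain ⟨w', hw'⟩ := LV.Blk.exists_card (D.pow hm) hc hr
  exact le_antisymm (hw'.le.trans ((h1 w').le.trans (LV.Blk.fact_N_le (D := D) c w')))
    (hw.le.trans ((h1 w).ge.trans (LV.Blk.fact_N_le (D := D.pow hm) c w)))

variable (D) in
/-- the primes for the eigenvalues -/
def PrAll : Prop := ∀ j B, St D j B → ∀ (_ : Fr D) (n : ℕ), Lg fun l => ∀ hl : 0 < l, ∀ w μ, Eig (rts D) (D.Wm w * B) μ →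
  ∃ r, r.Prime ∧ r ≠ p ∧ n < r ∧ Pr (D.pow hl) B r μ

theorem boxUp_of [Fintype ↥(GF F G)] (hP : PrAll D) : BoxUp D := by
  intro hp j B h f n
  obtain ⟨N₀, hN⟩ := BZ.Lab.boxGeo D 2 Nat.prime_two hp.symm
  obtain ⟨l, ⟨⟨hl, α, hα, k1⟩, k2⟩, k3⟩ := ((((lg_lp f).and hN).and (lg_tor D Nat.prime_two hp.symm)).and
    (hP j B h f (n + Nat.card (GF F G)))).ex
  have : Fact l.Prime := ⟨hl.prime⟩
  have := finite_GF (D.pow hl.pos)
  have := Fintype.ofFinite (GF (F ^ l) G)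
  obtain ⟨i, hi⟩ := hl.exists_eq
  obtain ⟨f', h1, h2⟩ := hl.exists_fr
  obtain ⟨φ, hφ, hU⟩ := exists_setup hl
  obtain rfl : φ = α := MulEquiv.ext fun g => Subtype.ext ((hφ g).trans (hα g).symm)
  obtain ⟨e, -, h4, h5⟩ := exists_bij hU
  choose a h7 h8 using h5
  have h6 := fun χ => (h4 (e χ)).2 ⟨χ, rfl⟩
  have h9 := fun σ χ => fix_iff hU (e χ) χ (inv_zpowers _ (h6 χ)) (h7 χ) (h8 χ) σ
  obtain ⟨r₀, k4, k5⟩ := Nat.exists_infinite_primes (l + 1)
  refine ⟨⟨l, hl.pos, f', j * l, st_pow h f hl.pos hi, e, fun χ => lift_of hl h1 h2 χ.2 (e χ).2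
    (fun g g' hg => by rw [← h6 χ g, show g' = φ g from Subtype.ext (hg.trans (hφ g).symm)]) (h7 χ) (h8 χ), h9,
    fun M hM χ => h0_up hU (k1 r₀ k5 k4).toGl hM (e χ) χ (h6 χ) (h7 χ) (h8 χ),
    congrArg (2 ^ ·) (grp_eq f Nat.prime_two hp.symm hl.pos (hi.trans (add_comm _ _)) (k2 hl.pos)), k2 hl.pos, fun w μ hμ => ?_⟩⟩
  obtain ⟨r, k6, k7, k8, k9⟩ := k3 hl.pos w μ hμ
  have : Fact r.Prime := ⟨k6⟩
  refine ⟨r, k6, k7, by omega, k9, fun χ => ratR_of_fix (OddOrderCharacters.VChar.gen_of_irr (e χ).2)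
    (Nat.not_dvd_of_pos_of_lt (Nat.card_pos (α := GF F G)) (by omega)) fun σ hσ => (h9 σ χ).2 fun x => ?_⟩
  rw [GaloisBasic.map_apply_card σ (m := 1) (fun z hz => (hσ z hz).trans (pow_one z).symm) (Core.isIrr_isCharacter χ.2), pow_one]

end Cfsg.Agent.HZ.L.Up
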